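import Mathlib
import Groth.Agent.Lib.Helper3.MinCx
import Groth.Agent.Lib.Helper5.KFlat.LBCFlat
import Groth.Agent.Lib.Helper5.Shriek.Calc
import Groth.Agent.Lib.Helper5.DRing.FlatBC

/-!
# A pseudo-coherent complex over a local ring whose base change along a local homomorphism is a
free module in a single degree is itself a free module in a single degree (helper5)
-/
set_option autoImplicit false
set_option linter.unusedSectionVars false
set_option linter.unusedVariables false
set_option linter.style.haveILetI false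
universe u
open CategoryTheory CategoryTheory.Limits DerivedCategory
attribute [local instance] HasDerivedCategory.standard

namespace Groth.Agent.Lib.Helper5.LocusRing

open Groth.Agent.Lib.Helper5.KProj Groth.Agent.Lib.Helper5.KFlat Groth.Agent.Lib.Helper5.DTenLib
open Groth.Agent.Helper5.FlatBC Groth.Agent.Helper5.PCDev _root_.Helper5.Shriek

section field

variable {k k' : Type u} [Field k] [Field k'] (ψ : k →+* k')

/-- cohomology of the derived base change along a field extension -/
theorem finrank_Hn_lbc_field (Y : Dual.D k) (j : ℤ) :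
    Module.finrank k' (Hn j ((DRing.LBaseChange ψ).obj Y)) = Module.finrank k (Hn j Y) := by
  letI : Algebra k k' := ψ.toAlgebra
  let Y₀ : DRing.Cx k := DerivedCategory.Q.objPreimage Y
  let e₀ : DRing.toD Y₀ ≅ Y := DerivedCategory.Q.objObjPreimageIso Y
  let e₁ : DRing.toD (res Y₀) ≅ DRing.toD Y₀ := asIso (DerivedCategory.Q.map (resMap Y₀))
  let e₂ : (DRing.LBaseChange ψ).obj Y ≅ DRing.toD ((Ec k').obj (res Y₀)) :=
    (DRing.LBaseChange ψ).mapIso (e₀.symm ≪≫ e₁.symm) ≪≫ lbcIsoFlat ψ (res Y₀) (isKFlat_res Y₀)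
  let e₃ : Hn j ((DRing.LBaseChange ψ).obj Y) ≅ (Ef k').obj ((res Y₀).homology j) :=
    (homologyFunctor (ModuleCat.{u} k') j).mapIso e₂ ≪≫ hIso k' (res Y₀) j
  let e₄ : Hn j Y ≅ (res Y₀).homology j :=
    (homologyFunctor (ModuleCat.{u} k) j).mapIso (e₀.symm ≪≫ e₁.symm) ≪≫
      (homologyFunctorFactors (ModuleCat.{u} k) j).app (res Y₀)
  rw [e₃.toLinearEquiv.finrank_eq, e₄.toLinearEquiv.finrank_eq]
  exact ((eqv k' ((res Y₀).homology j)).finrank_eq).symm.trans Module.finrank_baseChange

end field

section single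

variable {S L : Type u} [CommRing S] [CommRing L] (χ : S →+* L)

/-- a flat module placed in a single degree is K-flat -/
theorem isKFlat_single (N : ModuleCat.{u} S) (hN : Module.Flat S N) (i : ℤ) :
    DRing.IsKFlat S ((HomologicalComplex.single (ModuleCat.{u} S) (ComplexShape.up ℤ) i).obj N) := by
  refine isKFlat_of_bounded_above _ i (fun j hj =>
    HomologicalComplex.isZero_single_obj_X (ComplexShape.up ℤ) i N j (by omega)) (fun n => ?_)
  by_cases h : n = i
  · subst h
    exact Module.Flat.of_linearEquiv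
      (HomologicalComplex.singleObjXSelf (ComplexShape.up ℤ) n N).toLinearEquiv
  · have hz := HomologicalComplex.isZero_single_obj_X (ComplexShape.up ℤ) i N n h
    haveI : Subsingleton ((HomologicalComplex.single (ModuleCat.{u} S) (ComplexShape.up ℤ) i).obj
      N |>.X n) := ModuleCat.subsingleton_of_isZero hz
    infer_instance

/-- derived base change of a flat module placed in a single degree -/
noncomputable def lbcSingleIso (N : ModuleCat.{u} S) (hN : Module.Flat S N) (i : ℤ) :
    (DRing.LBaseChange χ).obj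
        (DRing.toD ((HomologicalComplex.single (ModuleCat.{u} S) (ComplexShape.up ℤ) i).obj N)) ≅
      DRing.toD ((HomologicalComplex.single (ModuleCat.{u} L) (ComplexShape.up ℤ) i).obj
        ((ModuleCat.extendScalars.{u, u, u} χ).obj N)) :=
  lbcIsoFlat χ _ (isKFlat_single N hN i) ≪≫
    DerivedCategory.Q.mapIso ((HomologicalComplex.singleMapHomologicalComplex
      (ModuleCat.extendScalars.{u, u, u} χ) (ComplexShape.up ℤ) i).app N)

/-- cohomology of a module placed in a single degree, in that degree -/
noncomputable def HnSingleSelfIso (N : ModuleCat.{u} S) (i : ℤ) :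
    Hn i (DRing.toD ((HomologicalComplex.single (ModuleCat.{u} S) (ComplexShape.up ℤ) i).obj N)) ≅
      N :=
  (homologyFunctorFactors (ModuleCat.{u} S) i).app _ ≪≫
    HomologicalComplex.singleObjHomologySelfIso (ComplexShape.up ℤ) i N

/-- cohomology of a module placed in a single degree, in the other degrees -/
theorem isZero_Hn_single (N : ModuleCat.{u} S) (i j : ℤ) (h : j ≠ i) :
    IsZero (Hn j (DRing.toD
      ((HomologicalComplex.single (ModuleCat.{u} S) (ComplexShape.up ℤ) i).obj N))) :=
  IsZero.of_iso (HomologicalComplex.isZero_single_obj_homology (ComplexShape.up ℤ) i N j h)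
    ((homologyFunctorFactors (ModuleCat.{u} S) j).app _)

end single

section main

open Groth.Agent.Helper3.MinCx Groth.Agent.Helper3.ProjLiftNil

variable {R S : Type u} [CommRing R] [CommRing S] [IsLocalRing R] [IsLocalRing S]
  (φ : R →+* S) [IsLocalHom φ]

open TensorProduct in
/-- the rank of the extension of scalars of a finite free module -/
theorem finrank_extendScalars {A B : Type u} [CommRing A] [CommRing B] [Nontrivial B]
    (χ : A →+* B) (F : ModuleCat.{u} A) [Module.Free A F] [Module.Finite A F] :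
    Module.finrank B ((ModuleCat.extendScalars.{u, u, u} χ).obj F) = Module.finrank A F := by
  letI : Algebra A B := χ.toAlgebra
  haveI : Nontrivial A := χ.domain_nontrivial
  exact ((eqv B F).finrank_eq).symm.trans Module.finrank_baseChange

/-- **a pseudo-coherent complex over a local ring whose derived base change along a local
homomorphism is free of rank `r` in degree `i` is itself free of rank `r` in degree `i`** -/
theorem exists_iso_single_of_lbc (K : Dual.D R) (hK : DRing.IsPseudoCoherent' R K) (i : ℤ) (r : ℕ)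
    (N : ModuleCat.{u} S) [Module.Free S N] [Module.Finite S N] (hr : Module.finrank S N = r)
    (e : (DRing.LBaseChange φ).obj K ≅
      DRing.toD ((HomologicalComplex.single (ModuleCat.{u} S) (ComplexShape.up ℤ) i).obj N)) :
    ∃ F : ModuleCat.{u} R, Module.Free R F ∧ Module.Finite R F ∧ Module.finrank R F = r ∧
      Nonempty (K ≅ DRing.toD
        ((HomologicalComplex.single (ModuleCat.{u} R) (ComplexShape.up ℤ) i).obj F)) := by
  let mR := IsLocalRing.maximalIdeal R
  let mS := IsLocalRing.maximalIdeal S
  letI : Field (R ⧸ mR) := Ideal.Quotient.field mR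
  letI : Field (S ⧸ mS) := Ideal.Quotient.field mS
  have hle : mR ≤ mS.comap φ := ((IsLocalRing.local_hom_TFAE φ).out 0 3).1 ‹_›
  let πR : R →+* R ⧸ mR := Ideal.Quotient.mk mR
  let πS : S →+* S ⧸ mS := Ideal.Quotient.mk mS
  let ψ : R ⧸ mR →+* S ⧸ mS := Ideal.quotientMap mS φ hle
  have hsq : ψ.comp πR = πS.comp φ := Ideal.quotientMap_comp_mk hle
  obtain ⟨P, b, hPb, hPt, ⟨eP⟩, hH⟩ :=
    exists_minimal mR (IsLocalRing.maximalIdeal_le_jacobson ⊥) K hK
  -- the two computations of `K ⊗ k'`
  let X := (DRing.LBaseChange (πS.comp φ)).obj K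
  let a : X ≅ DRing.toD ((HomologicalComplex.single (ModuleCat.{u} (S ⧸ mS))
      (ComplexShape.up ℤ) i).obj ((ModuleCat.extendScalars.{u, u, u} πS).obj N)) :=
    (lbcCompIso φ πS).app K ≪≫ (DRing.LBaseChange πS).mapIso e ≪≫
      lbcSingleIso πS N inferInstance i
  have b0 : Nonempty (DRing.LBaseChange (πS.comp φ) ≅ DRing.LBaseChange (ψ.comp πR)) := by
    rw [hsq]
    exact ⟨Iso.refl _⟩
  obtain ⟨b0⟩ := b0
  let bb : X ≅ (DRing.LBaseChange ψ).obj ((DRing.LBaseChange πR).obj K) :=
    b0.app K ≪≫ (lbcCompIso πR ψ).app K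
  have key : ∀ j : ℤ, Module.finrank R (P.X j) = Module.finrank (S ⧸ mS) (Hn j X) := by
    intro j
    obtain ⟨h1, h2⟩ := hPt j
    obtain ⟨eH⟩ := hH j
    rw [((homologyFunctor (ModuleCat.{u} (S ⧸ mS)) j).mapIso bb).toLinearEquiv.finrank_eq]
    rw [finrank_Hn_lbc_field ψ _ j]
    rw [← eH.toLinearEquiv.finrank_eq]
    exact (finrank_extendScalars πR (P.X j)).symm
  have hi : Module.finrank R (P.X i) = r := by
    rw [key i, ((homologyFunctor (ModuleCat.{u} (S ⧸ mS)) i).mapIso a).toLinearEquiv.finrank_eq,
      (HnSingleSelfIso _ i).toLinearEquiv.finrank_eq, finrank_extendScalars πS N, hr]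
  have hj : ∀ j : ℤ, j ≠ i → IsZero (P.X j) := by
    intro j hji
    obtain ⟨h1, h2⟩ := hPt j
    have hz : IsZero (Hn j X) :=
      IsZero.of_iso (isZero_Hn_single _ i j hji)
        ((homologyFunctor (ModuleCat.{u} (S ⧸ mS)) j).mapIso a)
    have h0 : Module.finrank R (P.X j) = 0 := by
      rw [key j]
      haveI := ModuleCat.subsingleton_of_isZero hz
      exact Module.finrank_zero_of_subsingleton
    haveI := (Module.finrank_eq_zero_iff_of_free (R := R) (M := P.X j)).1 h0
    exact ModuleCat.isZero_of_subsingleton _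
  haveI : P.IsStrictlyGE i := (CochainComplex.isStrictlyGE_iff P i).2
    (fun j hj' => hj j (by omega))
  haveI : P.IsStrictlyLE i := (CochainComplex.isStrictlyLE_iff P i).2
    (fun j hj' => hj j (by omega))
  obtain ⟨M, ⟨eM⟩⟩ := CochainComplex.exists_iso_single P i
  have eX : P.X i ≅ M := (HomologicalComplex.eval _ _ i).mapIso eM ≪≫
    HomologicalComplex.singleObjXSelf (ComplexShape.up ℤ) i M
  obtain ⟨h1, h2⟩ := hPt i
  refine ⟨P.X i, h2, h1, hi, ⟨eP.symm ≪≫ DerivedCategory.Q.mapIso (eM ≪≫
    (HomologicalComplex.single (ModuleCat.{u} R) (ComplexShape.up ℤ) i).mapIso eX.symm)⟩⟩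

end main

end Groth.Agent.Lib.Helper5.LocusRing
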