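import Mathlib
import Groth.Agent.Lib.Helper5.PerfLocus.RingLocal
import Groth.Agent.Lib.Helper5.DerSchTor.Restrict
import Groth.Agent.Lib.Helper5.Perf.PerfTri
import Groth.Agent.Lib.Helper5.Perf.StalkFree
import Groth.Agent.Lib.Helper5.Stalk.LpullComp

/-!
# Stalks of perfect complexes and of their derived pullbacks (helper5)
-/
set_option autoImplicit false
set_option linter.unusedSectionVars false
set_option linter.unusedVariables false
set_option linter.style.haveILetI false
universe u
open CategoryTheory CategoryTheory.Limits MonoidalCategory AlgebraicGeometry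
attribute [local instance] HasDerivedCategory.standard

namespace Groth.Agent.Lib.Helper5.PerfLocus

open Groth.Agent.Lib.Helper5.StalkTot Groth.Agent.Lib.Helper5.StalkAdj
open Groth.Agent.Helper5.TorAmp Groth.Agent.Lib.Helper5.TensorAmp
open Groth.Agent.Lib.Helper5.KSixFlat Groth.Agent.Lib.Helper5.KFlatPull
open Groth.Agent.Lib.Helper5.KFlatStalk Groth.Agent.Lib.Helper5.LpullLib
open Groth.Agent.Lib.Helper5.DerSchTor Groth.Agent.Lib.Helper5.PerfTri
open Groth.Agent.Lib.Helper5.StalkFree Groth.Agent.Lib.Helper5.LocusRing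
open DTen

section ring

/-- restriction of scalars along a bijective ring map preserves finite free modules -/
theorem free_finite_restrictScalars_of_bijective {B B' : Type u} [CommRing B] [CommRing B']
    (ε : B →+* B') (hε : Function.Bijective ε) (M : ModuleCat.{u} B')
    (h : Module.Free B' M ∧ Module.Finite B' M) :
    Module.Free B ((ModuleCat.restrictScalars.{u} ε).obj M) ∧
      Module.Finite B ((ModuleCat.restrictScalars.{u} ε).obj M) := by
  haveI := h.1
  haveI := h.2
  letI : Algebra B B' := ε.toAlgebra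
  letI : Module B M := Module.compHom M ε
  haveI : IsScalarTower B B' M := IsScalarTower.of_algebraMap_smul (fun _ _ => rfl)
  let eB : B ≃ₗ[B] B' := LinearEquiv.ofBijective (Algebra.linearMap B B') hε
  haveI : Module.Free B B' := Module.Free.of_equiv eB
  haveI : Module.Finite B B' := Module.Finite.equiv eB
  exact ⟨(Module.Free.trans (R := B) (S := B') (M := M) : Module.Free B M), (Module.Finite.trans B' M : Module.Finite B M)⟩

end ring

section stalkPC

variable {X : Scheme.{u}}

/-- **the stalks of a perfect complex are pseudo-coherent (even perfect) over the local rings** -/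
theorem isPC'_stalkCx_of_isPerfect (Pc : CochainComplex X.Modules ℤ)
    (hP : DCoh.IsPerfect (DCoh.toD X Pc)) (x : X) :
    DRing.IsPseudoCoherent' (X.presheaf.stalk x) (DRing.toD (stalkCx X x Pc)) := by
  obtain ⟨V, hxV, K₀, hK₀, ⟨e0⟩⟩ := exists_LPD_of_isPerfect hP x
  let x' : (V : Scheme.{u}) := ⟨x, hxV⟩
  let eV : (DCoh.restrictD V.ι).obj (DCoh.toD X Pc) ≅
      DerivedCategory.Q.obj ((DCoh.restrictCx V).obj Pc) :=
    (Scheme.Modules.restrictFunctor V.ι).mapDerivedCategoryFactors.app Pc
  have e1 : DCoh.toD (V : Scheme.{u}) ((DCoh.restrictCx V).obj Pc) ≅ DCoh.toD (V : Scheme.{u}) K₀ :=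
    eV.symm ≪≫ e0
  have e2 := resStalkDIso V.ι x' e1
  have hbij : Function.Bijective (V.ι.stalkMap x').hom :=
    (ConcreteCategory.isIso_iff_bijective _).1 inferInstance
  haveI := isIso_unitCx_of_bijective (V.ι.stalkMap x').hom hbij (stalkCx X (V.ι.base x') Pc)
  have e3 : stalkCx X (V.ι.base x') Pc ≅ (resCx (V.ι.stalkMap x').hom).obj
      (stalkCx (V : Scheme.{u}) x' ((DCoh.restrictCx V).obj Pc)) :=
    asIso ((unitCx (V.ι.stalkMap x').hom).app (stalkCx X (V.ι.base x') Pc)) ≪≫
      (resCx (V.ι.stalkMap x').hom).mapIso (stalkCxRestrictIso V x' Pc).symm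
  obtain ⟨⟨a, b, hab⟩, hfl⟩ := hK₀
  refine ⟨(resCx (V.ι.stalkMap x').hom).obj (stalkCx (V : Scheme.{u}) x' K₀), b, fun j hj => ?_,
    fun j => ?_, ⟨e2.symm ≪≫ DerivedCategory.Q.mapIso e3.symm⟩⟩
  · exact Functor.map_isZero (ModuleCat.restrictScalars.{u} (V.ι.stalkMap x').hom)
      (Functor.map_isZero (stalkSh (V : Scheme.{u}) x') (hab j (Or.inr hj)))
  · have h1 := free_finite_stalk_of_isFinLocFree (K₀.X j) (hfl j) x'
    have h2 := free_finite_restrictScalars_of_bijective (V.ι.stalkMap x').hom hbij _ h1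
    exact ⟨h2.2, h2.1⟩

end stalkPC

section rank

variable {X : Scheme.{u}}

/-- the rank of the stalk of a module which is free of rank `n` near `x` -/
theorem finrank_stalk_of_restrict_iso (M : X.Modules) (U : X.Opens) (n : ℕ)
    (e : M.restrict U.ι ≅ FlatMod.freeMod (↑U) n) (x : X) (hx : x ∈ U) :
    Module.Free (X.presheaf.stalk x) ((stalkSh X x).obj M) ∧
      Module.Finite (X.presheaf.stalk x) ((stalkSh X x).obj M) ∧
      Module.finrank (X.presheaf.stalk x) ((stalkSh X x).obj M) = n := by
  let x' : (U : Scheme.{u}) := ⟨x, hx⟩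
  have h1 := free_finite_stalk_freeMod (U : Scheme.{u}) x' n
  have e1 := ((stalkSh (U : Scheme.{u}) x').mapIso e).toLinearEquiv
  haveI := h1.1
  haveI := h1.2
  have h2 := free_finite_of_restrict U.ι M x'
    ⟨Module.Free.of_equiv e1.symm, Module.Finite.equiv e1.symm⟩
  haveI := h2.1
  haveI := h2.2
  refine ⟨h2.1, h2.2, ?_⟩
  have e2 : (stalkSh (U : Scheme.{u}) x').obj (M.restrict U.ι) ≅
      (ModuleCat.extendScalars.{u, u, u} (U.ι.stalkMap x').hom).obj
        ((stalkSh X (U.ι.base x')).obj M) :=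
    (stalkSh (U : Scheme.{u}) x').mapIso ((Scheme.Modules.restrictFunctorIsoPullback U.ι).app M) ≪≫
      (stalkPullbackIso U.ι x').app M
  have h3 := finrank_extendScalars (U.ι.stalkMap x').hom ((stalkSh X (U.ι.base x')).obj M)
  have h4 : Module.finrank ((U : Scheme.{u}).presheaf.stalk x')
      ((ModuleCat.extendScalars.{u, u, u} (U.ι.stalkMap x').hom).obj
        ((stalkSh X (U.ι.base x')).obj M)) = n := by
    rw [← e2.toLinearEquiv.finrank_eq, e1.finrank_eq,
      (stalkFreeIso (U : Scheme.{u}) x' n).toLinearEquiv.finrank_eq]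
    exact Module.finrank_fin_fun _
  exact h3.symm.trans h4

end rank

section main

variable {X Y : Scheme.{u}}

/-- a module placed in degree `0` and shifted by `-i`, as a complex -/
noncomputable def shiftSingleIso (V : Y.Modules) (i : ℤ) :
    (DCoh.inD Y V)⟦-i⟧ ≅
      DCoh.toD Y ((HomologicalComplex.single Y.Modules (ComplexShape.up ℤ) i).obj V) :=
  ((DerivedCategory.singleFunctors Y.Modules).shiftIso (-i) i 0 (by omega)).app V ≪≫
    (DerivedCategory.singleFunctorIsoCompQ Y.Modules i).app V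

/-- **if `Lf^*E` is finite locally free of rank `r` in degree `i`, the stalks of the perfect
complex `E` at the points of the image of `f` are free of rank `r` in degree `i`** -/
theorem exists_stalk_iso_single (f : Y ⟶ X) [DCoh.HasLpull f]
    (Pc : CochainComplex X.Modules ℤ) (hPc : KFT Pc) (hP : DCoh.IsPerfect (DCoh.toD X Pc))
    (V : Y.Modules) (r : ℕ) (hV : FlatMod.IsFinLocFreeOfRank r V) (i : ℤ)
    (eV : (DCoh.Lpull f).obj (DCoh.toD X Pc) ≅ (DCoh.inD Y V)⟦-i⟧) (y : Y) :
    ∃ F : ModuleCat.{u} (X.presheaf.stalk (f.base y)),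
      Module.Free (X.presheaf.stalk (f.base y)) F ∧ Module.Finite (X.presheaf.stalk (f.base y)) F ∧
      Module.finrank (X.presheaf.stalk (f.base y)) F = r ∧
      Nonempty (DRing.toD (stalkCx X (f.base y) Pc) ≅ DRing.toD
        ((HomologicalComplex.single (ModuleCat.{u} (X.presheaf.stalk (f.base y)))
          (ComplexShape.up ℤ) i).obj F)) := by
  obtain ⟨U, hyU, ⟨eU⟩⟩ := hV y
  obtain ⟨hN1, hN2, hN3⟩ := finrank_stalk_of_restrict_iso V U r eU y hyU
  haveI := hN1
  haveI := hN2
  have hC := isKFlat_stalkCx Pc hPc.1 (f.base y)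
  let e' : DCoh.toD Y (((Scheme.Modules.pullback f).mapHomologicalComplex
      (ComplexShape.up ℤ)).obj Pc) ≅
      DCoh.toD Y ((HomologicalComplex.single Y.Modules (ComplexShape.up ℤ) i).obj V) :=
    (lpullObjIso f Pc hPc).symm ≪≫ eV ≪≫ shiftSingleIso V i
  let e : (DRing.LBaseChange (f.stalkMap y).hom).obj (DRing.toD (stalkCx X (f.base y) Pc)) ≅
      DRing.toD ((HomologicalComplex.single (ModuleCat.{u} (Y.presheaf.stalk y))
        (ComplexShape.up ℤ) i).obj ((stalkSh Y y).obj V)) :=
    Groth.Agent.Lib.Helper5.KFlat.lbcIsoFlat (f.stalkMap y).hom _ hC ≪≫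
      DerivedCategory.Q.mapIso (stalkCxPullbackIso f Pc y).symm ≪≫ stalkDIso y e' ≪≫
      DerivedCategory.Q.mapIso ((HomologicalComplex.singleMapHomologicalComplex (stalkSh Y y)
        (ComplexShape.up ℤ) i).app V)
  exact exists_iso_single_of_lbc (f.stalkMap y).hom _
    (isPC'_stalkCx_of_isPerfect Pc hP (f.base y)) i r _ hN3 e

end main

end Groth.Agent.Lib.Helper5.PerfLocus
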