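import Mathlib
import Groth.Agent.Lib.Helper5.PerfLocus.StalkLocal
import Groth.Agent.Lib.Helper5.Perf.Locus
import Groth.Agent.Lib.Helper5.Euler.AffLocal

/-!
# The locus where a perfect complex is a finite locally free module of rank `r` in degree `i`
(helper5)
-/
set_option autoImplicit false
set_option linter.unusedSectionVars false
set_option linter.unusedVariables false
set_option linter.style.haveILetI false
universe u
open CategoryTheory CategoryTheory.Limits MonoidalCategory AlgebraicGeometry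
attribute [local instance] HasDerivedCategory.standard

namespace Groth.Agent.Lib.Helper5.PerfLocus

open Groth.Agent.Lib.Helper5.StalkTot Groth.Agent.Lib.Helper5.StalkAdj
open Groth.Agent.Helper5.TorAmp Groth.Agent.Lib.Helper5.TensorAmp
open Groth.Agent.Lib.Helper5.KSixFlat Groth.Agent.Lib.Helper5.KFlatPull
open Groth.Agent.Lib.Helper5.KFlatStalk Groth.Agent.Lib.Helper5.LpullLib
open Groth.Agent.Lib.Helper5.DerSchTor Groth.Agent.Lib.Helper5.PerfTri
open Groth.Agent.Lib.Helper5.StalkFree Groth.Agent.Lib.Helper5.LocusRing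
open Groth.Agent.Lib.Helper5.Locus Groth.Agent.Lib.Helper5.NearFLF
open Groth.Agent.Lib.Helper5.RpushSupp Groth.Agent.Helper5.PCDev
open DTen

variable {X : Scheme.{u}}

/-- the points where the stalks of the cohomology sheaves of `E` are free of rank `r` in degree
`i` and zero in the other degrees -/
def TT (E : DCoh.D X) (i : ℤ) (r : ℕ) : Set X := {x : X | ∀ j : ℤ,
  Module.Free (X.presheaf.stalk x) ((stalkSh X x).obj (DCoh.HD E j)) ∧
  Module.Finite (X.presheaf.stalk x) ((stalkSh X x).obj (DCoh.HD E j)) ∧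
  Module.finrank (X.presheaf.stalk x) ((stalkSh X x).obj (DCoh.HD E j)) = if j = i then r else 0}

/-- the open locus -/
def UU (E : DCoh.D X) (i : ℤ) (r : ℕ) : X.Opens := ⟨interior (TT E i r), isOpen_interior⟩

/-- the rank of the stalk of a restriction to an open -/
theorem finrank_stalk_restrict (M : X.Modules) (U : X.Opens) (x' : (U : Scheme.{u}))
    (h1 : Module.Free (X.presheaf.stalk (U.ι.base x')) ((stalkSh X (U.ι.base x')).obj M))
    (h2 : Module.Finite (X.presheaf.stalk (U.ι.base x')) ((stalkSh X (U.ι.base x')).obj M)) :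
    Module.finrank ((U : Scheme.{u}).presheaf.stalk x')
        ((stalkSh (U : Scheme.{u}) x').obj (M.restrict U.ι)) =
      Module.finrank (X.presheaf.stalk (U.ι.base x')) ((stalkSh X (U.ι.base x')).obj M) := by
  have e2 : (stalkSh (U : Scheme.{u}) x').obj (M.restrict U.ι) ≅
      (ModuleCat.extendScalars.{u, u, u} (U.ι.stalkMap x').hom).obj
        ((stalkSh X (U.ι.base x')).obj M) :=
    (stalkSh (U : Scheme.{u}) x').mapIso ((Scheme.Modules.restrictFunctorIsoPullback U.ι).app M) ≪≫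
      (stalkPullbackIso U.ι x').app M
  rw [e2.toLinearEquiv.finrank_eq]
  exact finrank_extendScalars (U.ι.stalkMap x').hom ((stalkSh X (U.ι.base x')).obj M)

/-- the stalk of a cohomology sheaf, as the cohomology of the complex of stalks -/
noncomputable def stalkHDIso (E : DCoh.D X) (Pc : CochainComplex X.Modules ℤ)
    (eP : DCoh.toD X Pc ≅ E) (x : X) (j : ℤ) :
    (stalkSh X x).obj (DCoh.HD E j) ≅ Hn j (DRing.toD (stalkCx X x Pc)) :=
  (stalkSh X x).mapIso ((DerivedCategory.homologyFunctor X.Modules j).mapIso eP.symm ≪≫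
      (DerivedCategory.homologyFunctorFactors X.Modules j).app Pc) ≪≫
    ((Pc.sc j).mapHomologyIso (stalkSh X x)).symm ≪≫
    ((DerivedCategory.homologyFunctorFactors (ModuleCat.{u} (X.presheaf.stalk x)) j).app
      (stalkCx X x Pc)).symm

/-- a stalk which is free of rank `r` in degree `i` gives a point of `TT` -/
theorem mem_TT_of_stalk_iso (E : DCoh.D X) (Pc : CochainComplex X.Modules ℤ)
    (eP : DCoh.toD X Pc ≅ E) (x : X) (i : ℤ) (r : ℕ)
    (F : ModuleCat.{u} (X.presheaf.stalk x)) (hF1 : Module.Free (X.presheaf.stalk x) F)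
    (hF2 : Module.Finite (X.presheaf.stalk x) F) (hF3 : Module.finrank (X.presheaf.stalk x) F = r)
    (eF : DRing.toD (stalkCx X x Pc) ≅ DRing.toD
      ((HomologicalComplex.single (ModuleCat.{u} (X.presheaf.stalk x)) (ComplexShape.up ℤ) i).obj F)) :
    x ∈ TT E i r := by
  intro j
  have e1 := stalkHDIso E Pc eP x j ≪≫
    (DerivedCategory.homologyFunctor (ModuleCat.{u} (X.presheaf.stalk x)) j).mapIso eF
  by_cases hj : j = i
  · subst hj
    have e2 := (e1 ≪≫ HnSingleSelfIso F j).toLinearEquiv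
    rw [if_pos rfl]
    exact ⟨Module.Free.of_equiv e2.symm, Module.Finite.equiv e2.symm, e2.finrank_eq.trans hF3⟩
  · have hz : IsZero ((stalkSh X x).obj (DCoh.HD E j)) :=
      IsZero.of_iso (isZero_Hn_single F i j hj) e1
    haveI := ModuleCat.subsingleton_of_isZero hz
    rw [if_neg hj]
    exact ⟨inferInstance, inferInstance, Module.finrank_zero_of_subsingleton⟩

/-- **`TT` is a neighbourhood of each of its points** (`E` perfect) -/
theorem exists_nhd_subset_TT (E : DCoh.D X) (hE : DCoh.IsPerfect E) (i : ℤ) (r : ℕ) (x : X)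
    (hx : x ∈ TT E i r) : ∃ O : X.Opens, x ∈ O ∧ (O : Set X) ⊆ TT E i r := by
  classical
  have hfl : ∀ j : ℤ, FlatMod.IsFlatAt (DCoh.HD E j) x := fun j => by
    haveI := (hx j).1
    exact (inferInstance : Module.Flat (X.presheaf.stalk x) ((stalkSh X x).obj (DCoh.HD E j)))
  obtain ⟨W₁, hxW₁, hW₁⟩ := exists_flf_HD E hE x hfl
  obtain ⟨V, hxV, K₀, hK₀, ⟨e0⟩⟩ := exists_LPD_of_isPerfect hE x
  obtain ⟨⟨a, b, hab⟩, -⟩ := hK₀
  have ei : ∀ j : ℤ, (DCoh.HD E j).restrict V.ι ≅ K₀.homology j := fun j =>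
    hdRestrictDIso E V j ≪≫ (DerivedCategory.homologyFunctor _ j).mapIso e0 ≪≫
      (DerivedCategory.homologyFunctorFactors _ j).app K₀
  have hzero : ∀ j : ℤ, (j < a ∨ b < j) → IsZero ((DCoh.HD E j).restrict V.ι) := fun j hj =>
    IsZero.of_iso (isZero_homology_of_isZero K₀ j (hab j hj)) (ei j)
  -- stalks at points of `V` outside `[a, b]`
  have hout : ∀ j : ℤ, (j < a ∨ b < j) → ∀ x'' : X, x'' ∈ V →
      Subsingleton ((stalkSh X x'').obj (DCoh.HD E j)) := fun j hj x'' hx'' =>
    subsingleton_stalk_of_isZero_restrict (DCoh.HD E j) V (hzero j hj) x'' hx''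
  let Z : X.Opens := W₁ ⊓ V
  let z : (Z : Scheme.{u}) := ⟨x, ⟨hxW₁, hxV⟩⟩
  let N : ℤ → (Z : Scheme.{u}).Modules := fun j => (DCoh.HD E j).restrict Z.ι
  have hN : ∀ j, FlatMod.IsFinLocFree (N j) := fun j => flf_mono _ inf_le_left (hW₁ j)
  obtain ⟨W', hzW', hW'⟩ := Groth.Agent.Lib.Helper5.AffLocal.exists_free_nhd_finset'
    (Finset.Icc a b) N hN z
  -- the rank at a point of `W'`
  have hrank : ∀ j : ℤ, ∀ z' : (Z : Scheme.{u}), z' ∈ W' →
      Module.Free (X.presheaf.stalk (Z.ι.base z')) ((stalkSh X (Z.ι.base z')).obj (DCoh.HD E j)) ∧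
      Module.Finite (X.presheaf.stalk (Z.ι.base z'))
        ((stalkSh X (Z.ι.base z')).obj (DCoh.HD E j)) ∧
      Module.finrank (X.presheaf.stalk (Z.ι.base z'))
        ((stalkSh X (Z.ι.base z')).obj (DCoh.HD E j)) =
      Module.finrank (X.presheaf.stalk x) ((stalkSh X x).obj (DCoh.HD E j)) := by
    intro j z' hz'
    by_cases hj : j ∈ Finset.Icc a b
    · obtain ⟨n, ⟨e⟩⟩ := hW' j hj
      obtain ⟨f1, f2, f3⟩ := finrank_stalk_of_restrict_iso (N j) W' n e z' hz'
      obtain ⟨g1, g2⟩ := free_finite_of_restrict Z.ι (DCoh.HD E j) z' ⟨f1, f2⟩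
      have g3 := finrank_stalk_restrict (DCoh.HD E j) Z z' g1 g2
      obtain ⟨f1', f2', f3'⟩ := finrank_stalk_of_restrict_iso (N j) W' n e z hzW'
      obtain ⟨g1', g2'⟩ := free_finite_of_restrict Z.ι (DCoh.HD E j) z ⟨f1', f2'⟩
      have g3' := finrank_stalk_restrict (DCoh.HD E j) Z z g1' g2'
      exact ⟨g1, g2, (g3.symm.trans f3).trans (f3'.symm.trans g3')⟩
    · have hj' : j < a ∨ b < j := by
        rw [Finset.mem_Icc] at hj
        omega
      haveI := hout j hj' (Z.ι.base z') z'.2.2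
      haveI := hout j hj' x hxV
      refine ⟨inferInstance, inferInstance, ?_⟩
      rw [Module.finrank_zero_of_subsingleton, Module.finrank_zero_of_subsingleton]
  refine ⟨Z.ι ''ᵁ W', ⟨z, hzW', rfl⟩, ?_⟩
  rintro x'' ⟨z', hz', rfl⟩ j
  obtain ⟨g1, g2, g3⟩ := hrank j z' hz'
  exact ⟨g1, g2, g3.trans (hx j).2.2⟩

section onUU

variable (E : DCoh.D X) (hE : DCoh.IsPerfect E) (i : ℤ) (r : ℕ)

theorem mem_TT_of_mem_UU (x : X) (hx : x ∈ UU E i r) : x ∈ TT E i r :=
  interior_subset hx

include hE in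
theorem mem_UU_of_mem_TT (x : X) (hx : x ∈ TT E i r) : x ∈ UU E i r := by
  obtain ⟨O, hxO, hO⟩ := exists_nhd_subset_TT E hE i r x hx
  exact mem_interior.2 ⟨O, hO, O.2, hxO⟩

/-- the cohomology sheaves in degrees `≠ i` vanish on `UU` -/
theorem isZero_HD_restrict_UU (j : ℤ) (hj : j ≠ i) :
    IsZero ((DCoh.HD E j).restrict (UU E i r).ι) := by
  apply isZero_restrict_of_stalks
  intro x hx
  obtain ⟨h1, h2, h3⟩ := mem_TT_of_mem_UU E i r x hx j
  rw [if_neg hj] at h3
  haveI := h1
  haveI := h2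
  exact (Module.finrank_eq_zero_iff_of_free (R := X.presheaf.stalk x)
    (M := (stalkSh X x).obj (DCoh.HD E j))).1 h3

include hE in
/-- the cohomology sheaf in degree `i` is finite locally free on `UU` -/
theorem flf_HD_restrict_UU : FlatMod.IsFinLocFree ((DCoh.HD E i).restrict (UU E i r).ι) := by
  apply flf_of_cover
  intro x hx
  have hT := mem_TT_of_mem_UU E i r x hx
  have hfl : ∀ j : ℤ, FlatMod.IsFlatAt (DCoh.HD E j) x := fun j => by
    haveI := (hT j).1
    exact (inferInstance : Module.Flat (X.presheaf.stalk x) ((stalkSh X x).obj (DCoh.HD E j)))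
  obtain ⟨W₁, hxW₁, hW₁⟩ := exists_flf_HD E hE x hfl
  exact ⟨W₁ ⊓ UU E i r, inf_le_right, ⟨hxW₁, hx⟩, flf_mono _ inf_le_left (hW₁ i)⟩

include hE in
/-- the cohomology sheaf in degree `i` is finite locally free of rank `r` on `UU` -/
theorem flfRank_HD_restrict_UU :
    FlatMod.IsFinLocFreeOfRank r ((DCoh.HD E i).restrict (UU E i r).ι) := by
  intro y'
  obtain ⟨U', n, hy', ⟨e⟩⟩ := flf_HD_restrict_UU E hE i r y'
  obtain ⟨f1, f2, f3⟩ := finrank_stalk_of_restrict_iso _ U' n e y' hy'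
  obtain ⟨g1, g2, g3⟩ := mem_TT_of_mem_UU E i r ((UU E i r).ι.base y') y'.2 i
  rw [if_pos rfl] at g3
  have g4 := finrank_stalk_restrict (DCoh.HD E i) (UU E i r) y' g1 g2
  have hn : n = r := (f3.symm.trans g4).trans g3
  subst hn
  exact ⟨U', hy', ⟨e⟩⟩

/-- **on `UU` the complex `E` is its cohomology sheaf in degree `i`, placed in degree `i`** -/
theorem nonempty_restrictD_UU_iso :
    Nonempty ((DCoh.restrictD (UU E i r).ι).obj E ≅
      (DCoh.inD (UU E i r : Scheme.{u}) ((DCoh.HD E i).restrict (UU E i r).ι))⟦-i⟧) := by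
  let K := (DCoh.restrictD (UU E i r).ι).obj E
  have hz : ∀ j : ℤ, j ≠ i → IsZero ((DerivedCategory.homologyFunctor _ j).obj K) := fun j hj =>
    IsZero.of_iso (isZero_HD_restrict_UU E i r j hj) (hdRestrictDIso E (UU E i r) j).symm
  haveI : K.IsGE i := (DerivedCategory.isGE_iff K i).2 (fun j hj => hz j (by omega))
  haveI : K.IsLE i := (DerivedCategory.isLE_iff K i).2 (fun j hj => hz j (by omega))
  obtain ⟨M, ⟨e⟩⟩ := DerivedCategory.exists_iso_singleFunctor_obj_of_isGE_of_isLE K i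
  have eM : M ≅ (DCoh.HD E i).restrict (UU E i r).ι :=
    ((DerivedCategory.singleFunctorCompHomologyFunctorIso _ i).app M).symm ≪≫
      (DerivedCategory.homologyFunctor _ i).mapIso e.symm ≪≫
      (hdRestrictDIso E (UU E i r) i).symm
  exact ⟨e ≪≫ (DerivedCategory.singleFunctor _ i).mapIso eM ≪≫
    (((DerivedCategory.singleFunctors _).shiftIso (-i) i 0 (by omega)).app _).symm⟩

end onUU

end Groth.Agent.Lib.Helper5.PerfLocus
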