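import Mathlib
import Groth.Agent.Lib.Helper5.PerfLocus.NhdLocal
import Groth.Agent.Lib.Helper5.Perf.LpullPerf
import Groth.Agent.Lib.Helper5.Euler.FibreRank
import Groth.Agent.Lib.Helper5.QC.LpullQC
import Groth.Agent.Lib.Helper5.Perf.HomVanishMV

/-!
# The locus where a perfect complex is a finite locally free module of rank `r` in degree `i`:
the universal property (helper5)
-/
set_option autoImplicit false
set_option linter.unusedSectionVars false
set_option linter.unusedVariables false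
set_option linter.style.haveILetI false
universe u
open CategoryTheory CategoryTheory.Limits MonoidalCategory AlgebraicGeometry
attribute [local instance] HasDerivedCategory.standard

namespace Groth.Agent.Lib.Helper5.PerfLocus

open Groth.Agent.Lib.Helper5.StalkTot Groth.Agent.Lib.Helper5.StalkAdj
open Groth.Agent.Lib.Helper5.LpullLib Groth.Agent.Lib.Helper5.PerfTri
open Groth.Agent.Lib.Helper5.StalkFree Groth.Agent.Lib.Helper5.Locus
open Groth.Agent.Lib.Helper5.NearFLF Groth.Agent.Lib.Helper5.FibreRank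
open Groth.Agent.Lib.Helper5.QC

section pullRank

variable {Y Z : Scheme.{u}}

/-- the pullback of a finite locally free module of rank `r` is finite locally free of rank `r` -/
theorem flfRank_pullback (g : Y ⟶ Z) (M : Z.Modules) (r : ℕ)
    (hM : FlatMod.IsFinLocFreeOfRank r M) :
    FlatMod.IsFinLocFreeOfRank r ((Scheme.Modules.pullback g).obj M) := by
  intro y
  obtain ⟨U₁, hy, ⟨e⟩⟩ := hM (g.base y)
  let W : Y.Opens := g ⁻¹ᵁ U₁
  have ht : Set.range (W.ι ≫ g).base ⊆ U₁ := by
    rintro _ ⟨w, rfl⟩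
    exact w.2
  refine ⟨W, hy, ⟨?_⟩⟩
  exact (Scheme.Modules.restrictFunctorIsoPullback W.ι).app _ ≪≫
    (Scheme.Modules.pullbackComp W.ι g).app M ≪≫ pullbackFreeOfRange (W.ι ≫ g) M U₁ r e ht

end pullRank

section main

variable {X : Scheme.{u}}

/-- a finite locally free module placed in a single degree is strictly perfect -/
theorem isStrictlyPerfect_single' {Z : Scheme.{u}} (P : Z.Modules) (hP : FlatMod.IsFinLocFree P)
    (i : ℤ) :
    DCoh.IsStrictlyPerfect ((HomologicalComplex.single Z.Modules (ComplexShape.up ℤ) i).obj P) := by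
  refine ⟨⟨i, i, fun j hj => ?_⟩, fun j => ?_⟩
  · exact HomologicalComplex.isZero_single_obj_X _ _ _ _ (by omega)
  · by_cases h : j = i
    · subst h
      exact Groth.Agent.Lead.FLF.isFinLocFree_of_iso
        (HomologicalComplex.singleObjXSelf (ComplexShape.up ℤ) j P).symm hP
    · exact Groth.Agent.Lib.Helper5.RpushOpen.isFinLocFree_of_isZero _
        (HomologicalComplex.isZero_single_obj_X _ _ _ _ h)

/-- **derived pullback of a finite locally free module in a single degree** -/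
theorem nonempty_lpull_single_iso {Y Z : Scheme.{u}} (g : Y ⟶ Z) [DCoh.HasLpull g]
    (P : Z.Modules) (hP : FlatMod.IsFinLocFree P) (i : ℤ) :
    Nonempty ((DCoh.Lpull g).obj ((DCoh.inD Z P)⟦-i⟧) ≅
      (DCoh.inD Y ((Scheme.Modules.pullback g).obj P))⟦-i⟧) :=
  ⟨(DCoh.Lpull g).mapIso (shiftSingleIso P i) ≪≫
    lpullObjIso g _ (kft_of_isStrictlyPerfect _ (isStrictlyPerfect_single' P hP i)) ≪≫
    DerivedCategory.Q.mapIso ((HomologicalComplex.singleMapHomologicalComplex
      (Scheme.Modules.pullback g) (ComplexShape.up ℤ) i).app P) ≪≫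
    (shiftSingleIso ((Scheme.Modules.pullback g).obj P) i).symm⟩

/-- **S1064**: the universal property of the locus `UU E i r` -/
theorem locus_universal (E : DCoh.D X) (hE : DCoh.IsPerfect E) (i : ℤ) (r : ℕ)
    (Y : Scheme.{u}) (f : Y ⟶ X) [DCoh.HasLpull f] :
    Set.range f.base ⊆ (UU E i r : Set X) ↔
      ∃ V : Y.Modules, FlatMod.IsFinLocFreeOfRank r V ∧
        Nonempty ((DCoh.Lpull f).obj E ≅ (DCoh.inD Y V)⟦-i⟧) := by
  constructor
  · intro h
    let U := UU E i r
    have hr : Set.range f.base ⊆ Set.range U.ι.base := by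
      rw [Scheme.Opens.range_ι]
      exact h
    let f' : Y ⟶ U := IsOpenImmersion.lift U.ι f hr
    have hf' : f' ≫ U.ι = f := IsOpenImmersion.lift_fac _ _ _
    haveI : DCoh.HasLpull f' := hasLpull _
    haveI : DCoh.HasLpull U.ι := hasLpull _
    haveI : DCoh.HasLpull (f' ≫ U.ι) := hasLpull _
    let VU := (DCoh.HD E i).restrict U.ι
    have hVU : FlatMod.IsFinLocFreeOfRank r VU := flfRank_HD_restrict_UU E hE i r
    obtain ⟨eU⟩ := nonempty_restrictD_UU_iso E i r
    obtain ⟨c1⟩ := lpull_comp f' U.ι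
    obtain ⟨r1⟩ := Groth.Agent.Lib.Helper5.HomVanish.nonempty_lpull_iso_restrictD U E
    obtain ⟨s1⟩ := nonempty_lpull_single_iso f' VU (flf_HD_restrict_UU E hE i r) i
    refine ⟨(Scheme.Modules.pullback f').obj VU, flfRank_pullback f' VU r hVU, ⟨?_⟩⟩
    exact (lpullCongr hf'.symm).app E ≪≫ (c1.app E).symm ≪≫
      (DCoh.Lpull f').mapIso (r1 ≪≫ eU) ≪≫ s1
  · rintro ⟨V, hV, ⟨eV⟩⟩ _ ⟨y, rfl⟩
    obtain ⟨Pc, hPc, ⟨eP⟩⟩ := exists_cell_repr E
    have hKFT := kft_of_cell hPc
    have hP : DCoh.IsPerfect (DCoh.toD X Pc) := by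
      intro x
      obtain ⟨W, hxW, hW⟩ := hE x
      exact ⟨W, hxW, fun F ⟨eF⟩ => hW F ⟨eF ≪≫ eP⟩⟩
    obtain ⟨F, hF1, hF2, hF3, ⟨eF⟩⟩ := exists_stalk_iso_single f Pc hKFT hP V r hV i
      ((DCoh.Lpull f).mapIso eP ≪≫ eV) y
    exact mem_UU_of_mem_TT E hE i r _
      (mem_TT_of_stalk_iso E Pc eP (f.base y) i r F hF1 hF2 hF3 eF)

end main

end Groth.Agent.Lib.Helper5.PerfLocus
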